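import Mathlib
import Groth.Agent.LinType.Basic
import Groth.Agent.RegLoc6.Open
import Groth.Agent.RegLoc6.Seq
import Groth.Agent.GeomReg.Basic

/-!
# The symmetric part of the relations between quadratic products of a regular ideal
-/

set_option autoImplicit false
set_option linter.style.haveILetI false

open TensorProduct MvPolynomial

namespace Groth.Agent.DiagThree

universe u v

section Algebraic

variable {S : Type v} [CommRing S] {n : ℕ} (I : Ideal S) (g : Fin n → I)

/-- The bilinear second-order part at the origin, evaluated at pairs of members of `I`. -/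
noncomputable def Φ : MvPolynomial (Fin n) S →ₗ[S] (I ⊗[S] I) :=
  ∑ i, ∑ j, (((MvPolynomial.lcoeff S 0).comp ((MvPolynomial.pderiv i).toLinearMap)).comp
    ((MvPolynomial.pderiv j).toLinearMap)).smulRight (g i ⊗ₜ[S] g j)

theorem Φ_apply (P : MvPolynomial (Fin n) S) :
    Φ I g P = ∑ i, ∑ j, constantCoeff (pderiv i (pderiv j P)) • (g i ⊗ₜ[S] g j) := by
  simp [Φ, MvPolynomial.constantCoeff_eq]

theorem Φ_kill (h : MvPolynomial (Fin n) S) (a b : Fin n) :
    Φ I g (h * (C (g a : S) * X b - C (g b : S) * X a)) = 0 := by
  classical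
  have hl : ∀ i, constantCoeff (pderiv i (C (g a : S) * X b - C (g b : S) * X a)) =
      (if i = b then (g a : S) else 0) - (if i = a then (g b : S) else 0) := fun i => by
    simp only [map_sub, pderiv_mul, pderiv_C, pderiv_X, Pi.single_apply, zero_mul, zero_add,
      map_mul, constantCoeff_C, apply_ite (constantCoeff (R := S) (σ := Fin n)), map_one, map_zero,
      mul_ite, mul_one, mul_zero, eq_comm]
  have hsmul : ∀ x : I, (g a : S) • (x ⊗ₜ[S] g b) - (g b : S) • (x ⊗ₜ[S] g a) = 0 := fun x => by
    rw [← TensorProduct.tmul_smul, ← TensorProduct.tmul_smul, ← TensorProduct.tmul_sub,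
      show (g a : S) • g b - (g b : S) • g a = 0 from Subtype.ext (by simp [mul_comm]),
      TensorProduct.tmul_zero]
  have hsmul' : ∀ x : I, (g a : S) • (g b ⊗ₜ[S] x) - (g b : S) • (g a ⊗ₜ[S] x) = 0 := fun x => by
    rw [TensorProduct.smul_tmul', TensorProduct.smul_tmul', ← TensorProduct.sub_tmul,
      show (g a : S) • g b - (g b : S) • g a = 0 from Subtype.ext (by simp [mul_comm]),
      TensorProduct.zero_tmul]
  set L := C (g a : S) * X b - C (g b : S) * X a with hL
  have h2 : ∀ i j, constantCoeff (pderiv i (pderiv j (h * L))) =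
      constantCoeff (pderiv j h) * constantCoeff (pderiv i L) +
        constantCoeff (pderiv i h) * constantCoeff (pderiv j L) := fun i j => by
    rw [pderiv_mul, map_add, pderiv_mul, pderiv_mul]
    have hc : constantCoeff L = 0 := by simp [hL]
    have hconst : constantCoeff (pderiv i (pderiv j L)) = 0 := by
      simp [hL, pderiv_C_mul, pderiv_X, Pi.single_apply, apply_ite (pderiv (R := S) i)]
    simp only [map_add, map_mul, hc, hconst, mul_zero, zero_add, add_zero]
  rw [Φ_apply]
  have hsub : ∀ (x y : S) (p q : I), (x - y) • (p ⊗ₜ[S] q) = x • (p ⊗ₜ[S] q) - y • (p ⊗ₜ[S] q) :=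
    fun x y p q => by rw [TensorProduct.smul_tmul', TensorProduct.smul_tmul', TensorProduct.smul_tmul',
      ← TensorProduct.sub_tmul, ← _root_.sub_smul]
  simp only [h2, hl, add_smul, Finset.sum_add_distrib]
  have e1 : ∑ i, ∑ j, (constantCoeff (pderiv j h) *
      ((if i = b then (g a : S) else 0) - (if i = a then (g b : S) else 0))) • (g i ⊗ₜ[S] g j) = 0 := by
    rw [Finset.sum_comm]
    refine Finset.sum_eq_zero fun j _ => ?_
    simp only [mul_sub, hsub, Finset.sum_sub_distrib, mul_ite, mul_zero, ite_smul, zero_smul,
      Finset.sum_ite_eq', Finset.mem_univ, if_true, mul_smul]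
    rw [sub_eq_zero.1 (hsmul' (g j)), sub_self]
  have e2 : ∑ i, ∑ j, (constantCoeff (pderiv i h) *
      ((if j = b then (g a : S) else 0) - (if j = a then (g b : S) else 0))) • (g i ⊗ₜ[S] g j) = 0 := by
    refine Finset.sum_eq_zero fun i _ => ?_
    simp only [mul_sub, hsub, Finset.sum_sub_distrib, mul_ite, mul_zero, ite_smul, zero_smul,
      Finset.sum_ite_eq', Finset.mem_univ, if_true, mul_smul]
    rw [sub_eq_zero.1 (hsmul (g i)), sub_self]
  rw [e1, e2, add_zero]

theorem Φ_rel {P : MvPolynomial (Fin n) S} (hP : P ∈ LinType.rel fun i => (g i : S)) : Φ I g P = 0 := by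
  induction hP using Submodule.span_induction with
  | mem q hq =>
    obtain ⟨a, b, rfl⟩ := hq
    simpa using Φ_kill I g 1 a b
  | zero => simp
  | add x y _ _ hx hy => rw [map_add, hx, hy, add_zero]
  | smul r x hx' hx =>
    clear hx
    rw [smul_eq_mul]
    induction hx' using Submodule.span_induction generalizing r with
    | mem q hq => obtain ⟨a, b, rfl⟩ := hq; exact Φ_kill I g r a b
    | zero => simp
    | add x y _ _ hx hy => rw [mul_add, map_add, hx, hy, add_zero]
    | smul s x _ hx => rw [smul_eq_mul, ← mul_assoc]; exact hx _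

theorem Φ_quadratic (c : Fin n → Fin n → S) :
    Φ I g (∑ i, ∑ j, C (c i j) * (X i * X j)) =
      ∑ i, ∑ j, c i j • (g i ⊗ₜ[S] g j + g j ⊗ₜ[S] g i) := by
  classical
  simp only [map_sum]
  refine Finset.sum_congr rfl fun i _ => Finset.sum_congr rfl fun j _ => ?_
  rw [← smul_eq_C_mul, map_smul]
  congr 1
  rw [Φ_apply]
  simp only [pderiv_mul, pderiv_X, Pi.single_apply, map_add, map_mul, apply_ite (constantCoeff (R := S) (σ := Fin n)),
    map_one, map_zero, add_smul, Finset.sum_add_distrib, ite_mul, mul_ite, one_mul, mul_one, zero_mul, mul_zero,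
    constantCoeff_X, apply_ite (pderiv (R := S) (σ := Fin n) _), pderiv_one, ite_smul, zero_smul, one_smul]
  simp [add_comm]

end Algebraic

variable {S : Type v} [CommRing S]

/-- For an ideal locally generated by regular sequences a relation `Σ f g = 0` is antisymmetric. -/
theorem add_comm_eq_zero [IsNoetherianRing S] (I : Ideal S)
    (hI : ∀ (Q : Ideal S) [Q.IsPrime], I ≤ Q → ∃ rs : List (Localization.AtPrime Q),
      RingTheory.Sequence.IsWeaklyRegular (Localization.AtPrime Q) rs ∧
      Ideal.ofList rs = I.map (algebraMap S (Localization.AtPrime Q)))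
    (t : I ⊗[S] I) (ht : LinearMap.mul' S S (TensorProduct.map I.subtype I.subtype t) = 0) :
    t + TensorProduct.comm S I I t = 0 := by
  classical
  let μ : I ⊗[S] I →ₗ[S] S := (LinearMap.mul' S S).comp (TensorProduct.map I.subtype I.subtype)
  have hμ : ∀ a b : I, μ (a ⊗ₜ[S] b) = (a : S) * b := fun a b => by simp [μ]
  set w := t + TensorProduct.comm S I I t
  have key : ∀ (Q : Ideal S) [Q.IsMaximal], ∃ s ∉ Q, s • w = 0 := by
    intro Q _
    by_cases hIQ : I ≤ Q
    · let SQ := Localization.AtPrime Q
      obtain ⟨rs, hreg, hrs⟩ := hI Q hIQ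
      -- numerators of the regular sequence
      have hnum : ∀ i : Fin rs.length, ∃ (z : I) (u : Q.primeCompl),
          rs.get i * algebraMap S SQ u = algebraMap S SQ z := by
        intro i
        have hmem : rs.get i ∈ I.map (algebraMap S SQ) := hrs ▸ Ideal.subset_span (List.get_mem rs i)
        obtain ⟨⟨z, u⟩, h⟩ := (IsLocalization.mem_map_algebraMap_iff Q.primeCompl SQ).1 hmem
        exact ⟨z, u, h⟩
      choose g u hgu using hnum
      let a : Fin rs.length → SQ := fun i => algebraMap S SQ (g i : S)
      have hu : ∀ i, IsUnit (algebraMap S SQ (u i : S)) := fun i => IsLocalization.map_units SQ (u i)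
      have hspan : I.map (algebraMap S SQ) ≤ Ideal.span (Set.range a) := by
        rw [← hrs, Ideal.ofList, Ideal.span_le]
        intro x hx
        obtain ⟨i, rfl⟩ := List.mem_iff_get.1 hx
        have h1 : rs.get i * algebraMap S SQ (u i) ∈ Ideal.span (Set.range a) := by
          rw [hgu i]
          exact Ideal.subset_span ⟨i, rfl⟩
        exact (Ideal.mul_unit_mem_iff_mem _ (hu i)).1 h1
      have hareg : RingTheory.Sequence.IsWeaklyRegular SQ (List.ofFn a) := by
        have h1 : RingTheory.Sequence.IsWeaklyRegular SQ (List.ofFn fun i => rs.get i) := by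
          rwa [List.ofFn_get]
        have hk := LinType.regular_pre (fun i => rs.get i) h1
        have hpre : ∀ k, LinType.pre a k = LinType.pre (fun i => rs.get i) k := fun k => by
          refine le_antisymm (Ideal.span_le.2 ?_) (Ideal.span_le.2 ?_)
          · rintro _ ⟨i, hi, rfl⟩
            show a i ∈ LinType.pre (fun i => rs.get i) k
            rw [show a i = rs.get i * algebraMap S SQ (u i) from (hgu i).symm]
            exact Ideal.mul_mem_right _ _ (Ideal.subset_span ⟨i, hi, rfl⟩)
          · rintro _ ⟨i, hi, rfl⟩
            refine (Ideal.mul_unit_mem_iff_mem _ (hu i)).1 ?_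
            rw [hgu i]
            exact Ideal.subset_span ⟨i, hi, rfl⟩
        refine ⟨fun k hk' => ?_⟩
        rw [isSMulRegular_quotient_iff_mem_of_smul_mem]
        intro x hx
        have hlt : k < rs.length := by simpa using hk'
        have hset : (Ideal.ofList ((List.ofFn a).take k) • ⊤ : Submodule SQ SQ) = LinType.pre a k := by
          rw [smul_eq_mul, Ideal.mul_top, Ideal.ofList, LinType.pre]
          congr 1
          ext y
          simp only [Set.mem_setOf_eq, List.mem_take_iff_getElem, List.length_ofFn, List.getElem_ofFn,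
            Set.mem_image]
          constructor
          · rintro ⟨j, hj, rfl⟩
            exact ⟨⟨j, by omega⟩, by show j < k; omega, rfl⟩
          · rintro ⟨j, hj, rfl⟩
            exact ⟨j, by simp only [lt_min_iff]; exact ⟨hj, j.2⟩, rfl⟩
        rw [hset, hpre] at hx ⊢
        refine hk k hlt x ?_
        rw [List.getElem_ofFn, smul_eq_mul] at hx
        have hx' : algebraMap S SQ (g ⟨k, hlt⟩ : S) * x ∈ LinType.pre (fun i => rs.get i) k := hx
        rw [← hgu, mul_right_comm] at hx'
        exact (Ideal.mul_unit_mem_iff_mem _ (hu _)).1 hx'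
      -- one denominator for all of `I`
      obtain ⟨s₀, hs₀, hs₀I⟩ : ∃ s₀ ∉ Q, ∀ x ∈ I, s₀ * x ∈ Ideal.span (Set.range fun i => (g i : S)) := by
        obtain ⟨p, e, he⟩ := Submodule.fg_iff_exists_fin_generating_family.1 (IsNoetherian.noetherian I)
        have h1 : ∀ r, ∃ c : Q.primeCompl, (c : S) * e r ∈ Ideal.span (Set.range fun i => (g i : S)) := by
          intro r
          have h2 : algebraMap S SQ (e r) ∈ (Ideal.span (Set.range fun i => (g i : S))).map (algebraMap S SQ) := by
            rw [Ideal.map_span, ← Set.range_comp]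
            exact hspan (Ideal.mem_map_of_mem _ (he.le (Submodule.subset_span ⟨r, rfl⟩)))
          obtain ⟨⟨z, c⟩, hzc⟩ := (IsLocalization.mem_map_algebraMap_iff Q.primeCompl SQ).1 h2
          rw [← map_mul] at hzc
          obtain ⟨d, hd⟩ := (IsLocalization.eq_iff_exists Q.primeCompl SQ).1 hzc
          refine ⟨d * c, ?_⟩
          rw [Submonoid.coe_mul, mul_assoc, mul_comm (c : S), hd]
          exact Ideal.mul_mem_left _ _ z.2
        choose c hc using h1
        refine ⟨((∏ r, c r : Q.primeCompl) : S), (∏ r, c r : Q.primeCompl).2, fun x hx => ?_⟩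
        rw [← he] at hx
        induction hx using Submodule.span_induction with
        | mem y hy =>
          obtain ⟨r, rfl⟩ := hy
          rw [← Finset.prod_erase_mul _ _ (Finset.mem_univ r), Submonoid.coe_mul, mul_assoc]
          exact Ideal.mul_mem_left _ _ (hc r)
        | zero => simp
        | add y z _ _ hy hz => rw [mul_add]; exact add_mem hy hz
        | smul r y _ hy => rw [smul_eq_mul, mul_left_comm]; exact Ideal.mul_mem_left _ _ hy
      -- write `s₀² t` in the numerators
      obtain ⟨c, hc⟩ : ∃ c : Fin rs.length → Fin rs.length → S,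
          (s₀ * s₀) • t = ∑ i, ∑ j, c i j • (g i ⊗ₜ[S] g j) := by
        clear ht w
        induction t using TensorProduct.induction_on with
        | zero => exact ⟨0, by simp⟩
        | tmul x y =>
          obtain ⟨cx, hcx⟩ := Ideal.mem_span_range_iff_exists_fun.1 (hs₀I x x.2)
          obtain ⟨cy, hcy⟩ := Ideal.mem_span_range_iff_exists_fun.1 (hs₀I y y.2)
          have ex : s₀ • x = ∑ i, cx i • g i := Subtype.ext (by
            rw [AddSubmonoidClass.coe_finsetSum]; simpa using hcx.symm)
          have ey : s₀ • y = ∑ i, cy i • g i := Subtype.ext (by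
            rw [AddSubmonoidClass.coe_finsetSum]; simpa using hcy.symm)
          refine ⟨fun i j => cx i * cy j, ?_⟩
          rw [← TensorProduct.smul_tmul_smul, ex, ey, TensorProduct.sum_tmul]
          refine Finset.sum_congr rfl fun i _ => ?_
          rw [TensorProduct.tmul_sum]
          refine Finset.sum_congr rfl fun j _ => ?_
          rw [TensorProduct.smul_tmul_smul]
        | add x y hx hy =>
          obtain ⟨c, hc⟩ := hx
          obtain ⟨d, hd⟩ := hy
          exact ⟨fun i j => c i j + d i j, by simp only [smul_add, hc, hd, add_smul, Finset.sum_add_distrib]⟩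
      let P : MvPolynomial (Fin rs.length) S := ∑ i, ∑ j, C (c i j) * (X i * X j)
      have hΦP : Φ I g P = (s₀ * s₀) • w := by
        rw [show Φ I g P = _ from Φ_quadratic I g c]
        have hc2 : (s₀ * s₀) • TensorProduct.comm S I I t = ∑ i, ∑ j, c i j • (g j ⊗ₜ[S] g i) := by
          rw [← map_smul, hc]
          simp only [map_sum, map_smul, TensorProduct.comm_tmul]
        simp only [w, smul_add, hc, hc2, Finset.sum_add_distrib]
      have hPhom : P.IsHomogeneous 2 := IsHomogeneous.sum _ _ _ fun i _ => IsHomogeneous.sum _ _ _ fun j _ =>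
        ((isHomogeneous_X S i).mul (isHomogeneous_X S j)).C_mul _
      have hPev : aeval (fun i => (g i : S)) P = 0 := by
        have h : μ ((s₀ * s₀) • t) = 0 := by
          rw [map_smul, show μ t = 0 from ht, smul_zero]
        rw [hc] at h
        simpa [P, hμ] using h
      have hmem : MvPolynomial.map (algebraMap S SQ) P ∈ LinType.rel a := by
        refine LinType.mem_rel_of_homogeneous a hareg (hPhom.map _) ?_
        have h := congrArg (algebraMap S SQ) hPev
        rw [map_zero] at h
        rw [MvPolynomial.aeval_map_algebraMap, ← h, ← MvPolynomial.aeval_algebraMap_apply]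
        rfl
      have hrelmap : LinType.rel a = (LinType.rel fun i => (g i : S)).map (MvPolynomial.map (algebraMap S SQ)) := by
        rw [LinType.rel, LinType.rel, Ideal.map_span]
        congr 1
        ext q
        constructor
        · rintro ⟨i, j, rfl⟩
          exact ⟨_, ⟨i, j, rfl⟩, by simp [a]⟩
        · rintro ⟨_, ⟨i, j, rfl⟩, rfl⟩
          exact ⟨i, j, by simp [a]⟩
      rw [hrelmap] at hmem
      letI := MvPolynomial.algebraMvPolynomial (σ := Fin rs.length) (R := S) (S := SQ)
      obtain ⟨⟨z, m⟩, hzm⟩ := (IsLocalization.mem_map_algebraMap_iff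
        (Q.primeCompl.map (C (σ := Fin rs.length))) (MvPolynomial (Fin rs.length) SQ)).1 hmem
      rw [show MvPolynomial.map (algebraMap S SQ) P = algebraMap (MvPolynomial (Fin rs.length) S)
        (MvPolynomial (Fin rs.length) SQ) P from rfl, ← map_mul] at hzm
      obtain ⟨⟨_, d, hd, rfl⟩, hd'⟩ :=
        (IsLocalization.eq_iff_exists (Q.primeCompl.map (C (σ := Fin rs.length)))
          (MvPolynomial (Fin rs.length) SQ)).1 hzm
      obtain ⟨e, he, hme⟩ := m.2
      refine ⟨d * e * (s₀ * s₀), fun hh => ?_, ?_⟩
      · rcases Ideal.IsPrime.mem_or_mem (Ideal.IsMaximal.isPrime ‹_›) hh with h | h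
        · rcases Ideal.IsPrime.mem_or_mem (Ideal.IsMaximal.isPrime ‹_›) h with h | h
          · exact hd h
          · exact he h
        · rcases Ideal.IsPrime.mem_or_mem (Ideal.IsMaximal.isPrime ‹_›) h with h | h <;> exact hs₀ h
      · rw [mul_smul, ← hΦP, ← map_smul, smul_eq_C_mul, MvPolynomial.C_mul, mul_assoc,
          mul_comm (C e) P]
        refine Φ_rel I g ?_
        have : C d * (P * C e) = C d * (z : MvPolynomial (Fin rs.length) S) := by
          rw [hme]
          exact hd'
        rw [this]
        exact Ideal.mul_mem_left _ _ z.2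
    · obtain ⟨s, hsI, hsQ⟩ := SetLike.not_le_iff_exists.1 hIQ
      refine ⟨s, hsQ, ?_⟩
      have hst : ∀ r : I ⊗[S] I, μ r = 0 → s • r = 0 := by
        intro r hr
        let ν : I ⊗[S] I →ₗ[S] I :=
          TensorProduct.lift (LinearMap.mk₂ S (fun x y : I => (x : S) • y)
            (fun x x' y => add_smul _ _ _) (fun c x y => by rw [Submodule.coe_smul, smul_assoc])
            (fun x y y' => smul_add _ _ _) (fun c x y => smul_comm _ _ _))
        have hν : ∀ r, ((ν r : I) : S) = μ r := fun r => by
          induction r using TensorProduct.induction_on with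
          | zero => simp
          | tmul x y => simp [ν, hμ]
          | add x y hx hy => simp [hx, hy]
        have hid : ∀ r, s • r = (⟨s, hsI⟩ : I) ⊗ₜ[S] ν r := fun r => by
          induction r using TensorProduct.induction_on with
          | zero => simp
          | tmul x y =>
            rw [show ν (x ⊗ₜ[S] y) = (x : S) • y from by simp [ν], TensorProduct.tmul_smul,
              TensorProduct.smul_tmul', TensorProduct.smul_tmul']
            congr 1
            exact Subtype.ext (mul_comm _ _)
          | add x y hx hy => rw [smul_add, hx, hy, map_add, TensorProduct.tmul_add]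
        rw [hid, show ν r = 0 from Subtype.ext ((hν r).trans hr), TensorProduct.tmul_zero]
      have hcomm : ∀ r, μ (TensorProduct.comm S I I r) = μ r := fun r => by
        induction r using TensorProduct.induction_on with
        | zero => simp
        | tmul x y => rw [TensorProduct.comm_tmul, hμ, hμ, mul_comm]
        | add x y hx hy => simp [hx, hy]
      rw [smul_add, hst t ht, hst _ ((hcomm t).trans ht), add_zero]
  by_contra hne
  obtain ⟨Q, hQ, hle⟩ := Ideal.exists_le_maximal (LinearMap.ker (LinearMap.toSpanSingleton S _ w))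
    (fun h => hne (by
      have h1 : (1 : S) ∈ LinearMap.ker (LinearMap.toSpanSingleton S _ w) := h ▸ Submodule.mem_top
      simpa using h1))
  obtain ⟨s, hs, hsw⟩ := key Q
  exact hs (hle (by simpa using hsw))

/-- A smooth algebra over a field is a regular ring (any universes). -/
theorem isRegularRing_of_smooth_field (k : Type u) [Field k] (S : Type v) [CommRing S] [Algebra k S]
    [Algebra.Smooth k S] [Nontrivial S] : IsRegularRing S := by
  let k' := (algebraMap k S).range
  let e : k ≃+* k' := RingEquiv.ofBijective (algebraMap k S).rangeRestrict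
    ⟨fun x y h => (algebraMap k S).injective (congrArg Subtype.val h),
      (algebraMap k S).rangeRestrict_surjective⟩
  letI : Field k' := (MulEquiv.isField (Field.toIsField k) e.symm.toMulEquiv).toField
  letI : Algebra k k' := e.toRingHom.toAlgebra
  haveI : IsScalarTower k k' S := IsScalarTower.of_algebraMap_eq fun _ => rfl
  haveI : Algebra.FormallyUnramified k k' :=
    Algebra.FormallyUnramified.of_surjective (Algebra.ofId k k') e.surjective
  haveI : Algebra.FiniteType k k' := Algebra.FiniteType.of_surjective (Algebra.ofId k k') e.surjective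
  haveI : Algebra.FormallySmooth k' S := Algebra.FormallySmooth.of_restrictScalars k k' S
  haveI : Algebra.FinitePresentation k' S :=
    Algebra.FinitePresentation.of_restrict_scalars_finitePresentation k k' S
  haveI : Algebra.Smooth k' S := ⟨inferInstance, inferInstance⟩
  haveI : IsRegularRing k' := inferInstance
  exact GeomReg.isRegularRing_of_smooth k' S

/-- A regular quotient of a regular ring is locally cut out by a regular sequence. -/
theorem exists_regular_of_regular_quotient {S : Type v} [CommRing S] [IsRegularRing S] (I : Ideal S)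
    [IsRegularRing (S ⧸ I)] (Q : Ideal S) [Q.IsPrime] (hIQ : I ≤ Q) :
    ∃ rs : List (Localization.AtPrime Q),
      RingTheory.Sequence.IsWeaklyRegular (Localization.AtPrime Q) rs ∧
      Ideal.ofList rs = I.map (algebraMap S (Localization.AtPrime Q)) := by
  let q' := Q.map (Ideal.Quotient.mk I)
  have hker : RingHom.ker (Ideal.Quotient.mk I) ≤ Q := by rwa [Ideal.mk_ker]
  haveI : q'.IsPrime := Ideal.map_isPrime_of_surjective Ideal.Quotient.mk_surjective hker
  have hq : q'.comap (Ideal.Quotient.mk I) = Q := by
    rw [Ideal.comap_map_of_surjective _ Ideal.Quotient.mk_surjective, ← RingHom.ker_eq_comap_bot,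
      sup_eq_left]
    exact hker
  obtain ⟨e⟩ := RegLoc6.exists_quotLocalEquiv I Q q' hq
  haveI := IsRegularRing.isRegularLocalRing_localization (R := S) Q
  haveI := IsRegularRing.isRegularLocalRing_localization (R := S ⧸ I) q'
  obtain ⟨rs, -, h1, h2⟩ := RegLoc6.exists_list_of_quotient _ _
    (I.map (algebraMap S (Localization.AtPrime Q))) le_rfl (IsRegularLocalRing.of_ringEquiv e.symm)
  exact ⟨rs, h1, h2⟩

end Groth.Agent.DiagThree
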